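import Groth.Agent.Props.SubSheaf
import Groth.Agent.Omega.Stalks
import Groth.Agent.QCoh.Exact
import Groth.Agent.Props.QProj
import Groth.Agent.PerfTri.Betti
import Mathlib.Algebra.Exact.Basic

/-!
# Morphisms and quotients given stalkwise; extensions of finite locally free modules
-/

set_option autoImplicit false
set_option linter.style.haveILetI false

universe u

open CategoryTheory CategoryTheory.Limits AlgebraicGeometry TopologicalSpace Opposite

noncomputable section

namespace Groth.Agent.ExtFilt.Stalkwise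

open Groth.Agent.PullStalk.Sky Groth.Agent.PullStalk.Exact Groth.Agent.Omega.Stalks
  Groth.Agent.Props.SubMod Groth.Agent.Props.SubSheaf Groth.Agent.QCoh

variable {X : Scheme.{u}} {M N : X.Modules}

lemma sec_ext {W : X.Opens} {a b : Γ(N, W)}
    (h : ∀ y (hy : y ∈ W), germM N W y hy a = germM N W y hy b) : a = b :=
  TopCat.Presheaf.section_ext (⟨N.presheaf, N.isSheaf⟩ : TopCat.Sheaf Ab X) W a b h

lemma germM_res' (M : X.Modules) {U W : X.Opens} (h : W ≤ U) (y : X) (hy : y ∈ W) (m : Γ(M, U)) :
    germM M W y hy (res M h m) = germM M U y (h hy) m :=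
  M.presheaf.germ_res_apply (homOfLE h) y hy m

/-- The stalk maps send germs of sections to germs of sections near `t`. -/
def Loc (φ : ∀ x, M.presheaf.stalk x →ₗ[X.presheaf.stalk x] N.presheaf.stalk x) (x : X)
    (t : M.presheaf.stalk x) : Prop :=
  ∃ (W : X.Opens) (hx : x ∈ W) (m : Γ(M, W)) (n : Γ(N, W)), germM M W x hx m = t ∧
    ∀ y (hy : y ∈ W), φ y (germM M W y hy m) = germM N W y hy n

variable {φ : ∀ x, M.presheaf.stalk x →ₗ[X.presheaf.stalk x] N.presheaf.stalk x}

theorem loc_zero (x : X) : Loc φ x 0 :=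
  ⟨⊤, trivial, 0, 0, map_zero (M.presheaf.germ ⊤ x trivial).hom, fun y hy => by
    rw [germM, germM, map_zero, map_zero, map_zero]⟩

theorem loc_add {x : X} {s t : M.presheaf.stalk x} (hs : Loc φ x s) (ht : Loc φ x t) : Loc φ x (s + t) := by
  obtain ⟨W, hx, m, n, rfl, h⟩ := hs
  obtain ⟨W', hx', m', n', rfl, h'⟩ := ht
  refine ⟨W ⊓ W', ⟨hx, hx'⟩, res M inf_le_left m + res M inf_le_right m',
    res N inf_le_left n + res N inf_le_right n', ?_, fun y hy => ?_⟩
  · exact (map_add (M.presheaf.germ _ x _).hom _ _).trans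
      (congrArg₂ (· + ·) (germM_res' M inf_le_left x ⟨hx, hx'⟩ m) (germM_res' M inf_le_right x ⟨hx, hx'⟩ m'))
  · refine (congrArg (φ y) (map_add (M.presheaf.germ _ y hy).hom _ _)).trans ?_
    refine ((φ y).map_add _ _).trans (Eq.trans ?_ (map_add (N.presheaf.germ _ y hy).hom _ _).symm)
    refine congrArg₂ (· + ·) ?_ ?_
    · exact (congrArg (φ y) (germM_res' M inf_le_left y hy m)).trans ((h y hy.1).trans (germM_res' N inf_le_left y hy n).symm)
    · exact (congrArg (φ y) (germM_res' M inf_le_right y hy m')).trans ((h' y hy.2).trans (germM_res' N inf_le_right y hy n').symm)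

theorem loc_smul {x : X} (a : X.presheaf.stalk x) {t : M.presheaf.stalk x} (ht : Loc φ x t) : Loc φ x (a • t) := by
  obtain ⟨W, hx, m, n, rfl, h⟩ := ht
  obtain ⟨V, hxV, c, rfl⟩ := X.presheaf.exists_germ_eq (x := x) a
  refine ⟨V ⊓ W, ⟨hxV, hx⟩, X.presheaf.map (homOfLE (inf_le_left : V ⊓ W ≤ V)).op c • res M (inf_le_right : V ⊓ W ≤ W) m,
    X.presheaf.map (homOfLE (inf_le_left : V ⊓ W ≤ V)).op c • res N (inf_le_right : V ⊓ W ≤ W) n, ?_, fun y hy => ?_⟩
  · refine (germM_smul M (V ⊓ W) x ⟨hxV, hx⟩ _ _).trans (congrArg₂ (· • ·) ?_ (germM_res' M (inf_le_right : V ⊓ W ≤ W) x ⟨hxV, hx⟩ m))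
    exact X.presheaf.germ_res_apply _ x _ c
  · refine (congrArg (φ y) (germM_smul M (V ⊓ W) y hy _ _)).trans (((φ y).map_smul _ _).trans ?_)
    refine Eq.trans ?_ (germM_smul N (V ⊓ W) y hy _ _).symm
    exact congrArg₂ (· • ·) rfl ((congrArg (φ y) (germM_res' M (inf_le_right : V ⊓ W ≤ W) y hy m)).trans ((h y hy.2).trans (germM_res' N (inf_le_right : V ⊓ W ≤ W) y hy n).symm))

/-- A morphism with prescribed stalk maps. -/
theorem exists_hom (hφ : ∀ x t, Loc φ x t) : ∃ h : M ⟶ N, ∀ x t, stalkLin h x t = φ x t := by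
  have hsec : ∀ (U : X.Opens) (m : Γ(M, U)), ∃ n : Γ(N, U),
      ∀ y (hy : y ∈ U), germM N U y hy n = φ y (germM M U y hy m) := by
    intro U m
    have hloc : ∀ x : U, ∃ (W : X.Opens) (_ : x.1 ∈ W) (hWU : W ≤ U) (n : Γ(N, W)),
        ∀ y (hy : y ∈ W), germM N W y hy n = φ y (germM M U y (hWU hy) m) := by
      rintro ⟨x, hx⟩
      obtain ⟨W, hxW, m', n', he, hW⟩ := hφ x (germM M U x hx m)
      obtain ⟨V, hxV, iW, iU, e⟩ := M.presheaf.germ_eq x hxW hx m' m he
      refine ⟨V, hxV, iU.le, res N iW.le n', fun y hy => ?_⟩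
      refine (germM_res' N iW.le y hy n').trans ((hW y (iW.le hy)).symm.trans (congrArg (φ y) ?_))
      refine ((germM_res' M iW.le y hy m').symm.trans ?_).trans (germM_res' M iU.le y hy m)
      exact congrArg (germM M V y hy) e
    choose W hxW hWU n hn using hloc
    let F : TopCat.Sheaf Ab X := ⟨N.presheaf, N.isSheaf⟩
    obtain ⟨s, hs, -⟩ := F.existsUnique_gluing' W U (fun x => homOfLE (hWU x))
      (fun y hy => Opens.mem_iSup.mpr ⟨⟨y, hy⟩, hxW ⟨y, hy⟩⟩) n (fun a b => sec_ext fun y hy => by
        refine ((N.presheaf.germ_res_apply (Opens.infLELeft (W a) (W b)) y hy (n a)).trans (hn a y hy.1)).trans ?_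
        exact ((N.presheaf.germ_res_apply (Opens.infLERight (W a) (W b)) y hy (n b)).trans (hn b y hy.2)).symm)
    refine ⟨s, fun y hy => ?_⟩
    rw [← hn ⟨y, hy⟩ y (hxW ⟨y, hy⟩)]
    exact (germM_res' N (hWU ⟨y, hy⟩) y (hxW ⟨y, hy⟩) s).symm.trans (congrArg (germM N _ y _) (hs ⟨y, hy⟩))
  choose n hn using hsec
  let h : M ⟶ N :=
    ⟨PresheafOfModules.homMk
      { app := fun U => AddCommGrpCat.ofHom (show Γ(M, U.unop) →+ Γ(N, U.unop) from
          AddMonoidHom.mk' (n U.unop) fun a b => sec_ext fun y hy => by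
            refine (hn U.unop _ y hy).trans (Eq.trans ?_ (map_add (N.presheaf.germ U.unop y hy).hom _ _).symm)
            refine (congrArg (φ y) (map_add (M.presheaf.germ U.unop y hy).hom a b)).trans ?_
            exact ((φ y).map_add _ _).trans (congrArg₂ (· + ·) (hn U.unop a y hy).symm (hn U.unop b y hy).symm))
        naturality := fun {U V} i => by
          ext a
          let a' : Γ(M, U.unop) := a
          change n V.unop (res M i.unop.le a') = res N i.unop.le (n U.unop a')
          exact sec_ext fun y hy => by rw [hn, germM_res', germM_res', hn] }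
      (fun U r a => by
        let a' : Γ(M, U.unop) := a
        let r' : Γ(X, U.unop) := r
        change n U.unop (r' • a') = r' • n U.unop a'
        exact sec_ext fun y hy => by rw [hn, germM_smul, germM_smul, map_smul, hn])⟩
  refine ⟨h, fun x t => ?_⟩
  obtain ⟨U, hx, m, rfl⟩ := exists_germM_eq M x t
  rw [stalkLin_germ]
  exact hn U m x hx

/-- A family of submodules of the stalks all whose members extend to nearby points. -/
def Cont (S : StalkSub M) : Prop :=
  ∀ x, ∀ t ∈ S x, ∃ (W : X.Opens) (hx : x ∈ W) (m : Γ(M, W)), germM M W x hx m = t ∧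
    ∀ y (hy : y ∈ W), germM M W y hy m ∈ S y

/-- The quotient by a family of submodules of the stalks. -/
abbrev quot (S : StalkSub M) : X.Modules := cokernel (incl S)

/-- The quotient map. -/
abbrev quotπ (S : StalkSub M) : M ⟶ quot S := cokernel.π (incl S)

theorem quotπ_surjective (S : StalkSub M) (x : X) : Function.Surjective (stalkLin (quotπ S) x) :=
  stalk_surjective _ x

theorem ker_quotπ {S : StalkSub M} (hS : Cont S) (x : X) : LinearMap.ker (stalkLin (quotπ S) x) = S x := by
  have hex := (stalk_exact (S := ShortComplex.mk (incl S) (cokernel.π (incl S)) (cokernel.condition _))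
    { exact := ShortComplex.exact_of_g_is_cokernel _ (cokernelIsCokernel _)
      mono_f := inferInstanceAs (Mono (incl S)) } x).2.1
  refine le_antisymm (fun t ht => ?_) fun t ht => ?_
  · obtain ⟨z, rfl⟩ := (hex t).1 ht
    obtain ⟨W, hxW, w, rfl⟩ := exists_germM_eq (sub S) x z
    change stalkLin (incl S) x _ ∈ _
    rw [stalkLin_germ]
    exact (mem_range_incl S _).mp ⟨w, rfl⟩ x hxW
  · obtain ⟨W, hxW, m, rfl, hm⟩ := hS x t ht
    obtain ⟨w, hw⟩ := (mem_range_incl S m).mpr hm
    refine (hex _).2 ⟨germM (sub S) W x hxW w, ?_⟩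
    change stalkLin (incl S) x _ = _
    rw [stalkLin_germ, hw]

/-- An extension of finite locally free modules is finite locally free. -/
theorem isFinLocFree_X₂ {S : ShortComplex X.Modules} (hS : S.ShortExact)
    (h₁ : FlatMod.IsFinLocFree S.X₁) (h₃ : FlatMod.IsFinLocFree S.X₃) : FlatMod.IsFinLocFree S.X₂ := by
  haveI := PerfTri.Betti.isQuasicoherent_of_isFinLocFree h₁
  haveI := PerfTri.Betti.isQuasicoherent_of_isFinLocFree h₃
  haveI : S.X₂.IsQuasicoherent := QCoh.isQuasicoherent_X₂ S hS
  refine Props.QProj.isFinLocFree_of _ (fun x => ?_) fun x => ?_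
  · obtain ⟨U, hU, hx, -⟩ := exists_isAffineOpen_mem_and_subset (X := X) (Opens.mem_top x)
    refine ⟨U, hU, hx, ?_⟩
    haveI := Props.QProj.finitePresentation_sections _ h₁ hU
    haveI := Props.QProj.finitePresentation_sections _ h₃ hU
    have hsur : Function.Surjective (CohDev.appLin S.g U) := QCoh.app_surjective_of_shortExact hU S hS
    obtain ⟨hex, hinj⟩ := sections_exact hS U
    let e : Γ(S.X₁, U) ≃ₗ[Γ(X, U)] LinearMap.ker (CohDev.appLin S.g U) :=
      LinearEquiv.ofBijective ((CohDev.appLin S.f U).codRestrict _ fun c => hex.apply_apply_eq_zero c)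
        ⟨fun a b h => hinj (congrArg Subtype.val h), fun z => by
          obtain ⟨a, ha⟩ := (hex z.1).1 z.2
          exact ⟨a, Subtype.ext ha⟩⟩
    haveI : Module.FinitePresentation Γ(X, U) (LinearMap.ker (CohDev.appLin S.g U)) :=
      Module.FinitePresentation.of_equiv e
    exact Module.finitePresentation_of_ker (CohDev.appLin S.g U) hsur
  · obtain ⟨hinj, hex, hsur⟩ := stalk_exact hS x
    haveI := (Props.QProj.free_stalk _ h₁ x).1
    haveI := (Props.QProj.free_stalk _ h₃ x).1
    obtain ⟨l, hl⟩ := Module.projective_lifting_property (stalkLin S.g x) LinearMap.id hsur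
    let c := LinearMap.coprod (stalkLin S.f x) l
    have hbij : Function.Bijective c := by
      refine ⟨(injective_iff_map_eq_zero c).2 fun p hp => ?_, fun t => ?_⟩
      · have h0 : stalkLin S.f x p.1 + l p.2 = 0 := hp
        have h1 := congrArg (stalkLin S.g x) h0
        rw [map_add, map_zero, hex.apply_apply_eq_zero, zero_add,
          show stalkLin S.g x (l p.2) = p.2 from LinearMap.congr_fun hl p.2] at h1
        rw [h1, map_zero, add_zero] at h0
        exact Prod.ext (hinj (h0.trans (map_zero _).symm)) h1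
      · obtain ⟨a, ha⟩ := (hex (t - l (stalkLin S.g x t))).1 (by
          rw [map_sub, show stalkLin S.g x (l _) = _ from LinearMap.congr_fun hl (stalkLin S.g x t)]
          exact sub_self _)
        exact ⟨(a, stalkLin S.g x t), by
          change stalkLin S.f x a + _ = _
          rw [ha]
          exact sub_add_cancel t _⟩
    exact Module.Free.of_equiv (LinearEquiv.ofBijective c hbij)

end Groth.Agent.ExtFilt.Stalkwise
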