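import Groth.Agent.ExtFilt.Alg
import Groth.Agent.ExtFilt.Stalkwise
import Groth.Agent.ExtPowSt.Stalk
import Groth.Agent.KFlat.StalkTensor

/-!
# The filtration of the exterior power of an extension, as quotient sheaves
-/

set_option autoImplicit false
set_option linter.style.haveILetI false

universe u

open CategoryTheory CategoryTheory.Limits AlgebraicGeometry TopologicalSpace Opposite TensorProduct

noncomputable section

namespace Groth.Agent.ExtFilt.Sheaf

open Groth.Agent.PullStalk.Sky Groth.Agent.PullStalk.Exact Groth.Agent.Omega.Stalks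
  Groth.Agent.QCoh Groth.Agent.Props.SubMod Groth.Agent.Props.SubSheaf Groth.Agent.ExtPowSt
  Groth.Agent.KFlat.StalkTensor Stalkwise Alg

variable {X : Scheme.{u}}

section

variable {n : ℕ} {E L : X.Modules} [E.IsQuasicoherent] (Φ : Sys n E L)

/-- The section `v₁ ∧ … ∧ vₙ`. -/
def wsec (U : X.affineOpens) (v : Fin n → Γ(E, U.1)) : Γ(L, U.1) :=
  (Φ.1 U).symm (exteriorPower.ιMulti _ n v)

theorem equiv_wedge (U : X.affineOpens) (x : X) (hx : x ∈ U.1) (v : Fin n → Γ(E, U.1)) :
    stalkEquiv Φ x (germM L U.1 x hx (wsec Φ U v)) =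
      exteriorPower.ιMulti _ n fun k => germM E U.1 x hx (v k) := by
  refine (stalkEquiv_germ Φ U x hx _).trans ?_
  change extσ _ n (germS E x hx) (Φ.1 U ((Φ.1 U).symm _)) = _
  rw [LinearEquiv.apply_symm_apply]
  exact extσ_ιMulti (r := n) _ (germS E x hx) v

omit [E.IsQuasicoherent] in
/-- Finitely many germs come from sections over an affine neighbourhood. -/
theorem exists_lifts (M : X.Modules) (x : X) {ι : Type*} [Finite ι] (v : ι → M.presheaf.stalk x)
    (W : X.Opens) (hW : x ∈ W) :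
    ∃ (U : X.affineOpens) (hx : x ∈ U.1), U.1 ≤ W ∧ ∃ s : ι → Γ(M, U.1), ∀ k, germM M U.1 x hx (s k) = v k := by
  choose V hV s hs using fun k => exists_germM_eq M x (v k)
  let O : X.Opens := W ⊓ ⟨⋂ k, (V k : Set X), isOpen_iInter_of_finite fun k => (V k).2⟩
  obtain ⟨U, hU, hxU, hle⟩ :=
    exists_isAffineOpen_mem_and_subset (X := X) (x := x) (U := O) ⟨hW, Set.mem_iInter.2 hV⟩
  have hleO : U ≤ O := hle
  refine ⟨⟨U, hU⟩, hxU, hleO.trans inf_le_left,
    fun k => res M (hleO.trans (inf_le_right.trans (fun y hy => Set.mem_iInter.1 hy k) : O ≤ V k)) (s k),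
    fun k => ?_⟩
  exact (germM_res' M (hleO.trans (inf_le_right.trans (fun y hy => Set.mem_iInter.1 hy k) : O ≤ V k)) x hxU (s k)).trans (hs k)

variable {E' : X.Modules} (f : E' ⟶ E)

/-- The stalks of the `i`-th step. -/
def St (i : ℕ) : StalkSub L := fun x =>
  (Fil (stalkLin f x) n i).comap (stalkEquiv Φ x).toLinearMap

theorem mem_St {i : ℕ} {x : X} {t : L.presheaf.stalk x} :
    t ∈ St Φ f i x ↔ stalkEquiv Φ x t ∈ Fil (stalkLin f x) n i :=
  Iff.rfl

theorem St_anti {i i' : ℕ} (h : i ≤ i') (x : X) : St Φ f i' x ≤ St Φ f i x :=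
  Submodule.comap_mono (Fil_anti _ n h)

theorem St_zero (x : X) : St Φ f 0 x = ⊤ := by
  rw [St, Fil_zero, Submodule.comap_top]

theorem St_succ_self (x : X) : St Φ f (n + 1) x = ⊥ := by
  rw [St, Fil_succ_self, Submodule.comap_bot, LinearEquiv.ker]

/-- A germ in a family of stalks with its neighbours. -/
def Spread (S : StalkSub L) (x : X) (t : L.presheaf.stalk x) : Prop :=
  ∃ (W : X.Opens) (hx : x ∈ W) (m : Γ(L, W)), germM L W x hx m = t ∧
    ∀ y (hy : y ∈ W), germM L W y hy m ∈ S y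

theorem cont_St (i : ℕ) : Cont (St Φ f i) := by
  intro x t ht
  suffices h : ∀ z ∈ Fil (stalkLin f x) n i, Spread (St Φ f i) x ((stalkEquiv Φ x).symm z) by
    obtain ⟨W, hx, m, hm, hmem⟩ := h _ ((mem_St Φ f).1 ht)
    exact ⟨W, hx, m, by rw [hm, LinearEquiv.symm_apply_apply], hmem⟩
  intro z hz
  induction hz using Submodule.span_induction with
  | mem z hz =>
    obtain ⟨v, hi, hv, rfl⟩ := hz
    choose a ha using fun k : {k : Fin n // (k : ℕ) < i} => hv k.1 k.2
    obtain ⟨U₀, hx₀, -, a', ha'⟩ := exists_lifts E' x a ⊤ trivial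
    obtain ⟨U, hx, hle, v', hv'⟩ := exists_lifts E x v U₀.1 hx₀
    let w : Fin n → Γ(E, U.1) := fun k =>
      if h : (k : ℕ) < i then f.app U.1 (res E' hle (a' ⟨k, h⟩)) else v' k
    have hw : ∀ k, germM E U.1 x hx (w k) = v k := fun k => by
      by_cases h : (k : ℕ) < i
      · simp only [w, dif_pos h]
        rw [← stalkLin_germ, germM_res', ha', ha]
      · simp only [w, dif_neg h]
        exact hv' k
    refine ⟨U.1, hx, wsec Φ U w, (stalkEquiv Φ x).injective ?_, fun y hy => ?_⟩
    · rw [equiv_wedge, LinearEquiv.apply_symm_apply]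
      exact congrArg _ (funext hw)
    · rw [mem_St, equiv_wedge]
      refine mem_Fil _ hi fun k hk => ⟨germM E' U.1 y hy (res E' hle (a' ⟨k, hk⟩)), ?_⟩
      simp only [w, dif_pos hk]
      exact stalkLin_germ f U.1 y hy _
  | zero =>
    refine ⟨⊤, trivial, 0, ?_, fun y hy => ?_⟩
    · rw [map_zero]
      exact map_zero (L.presheaf.germ ⊤ x trivial).hom
    · rw [show germM L ⊤ y hy 0 = 0 from map_zero (L.presheaf.germ ⊤ y hy).hom]
      exact zero_mem _
  | add p q _ _ hp hq =>
    obtain ⟨W, hx, m, hm, h⟩ := hp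
    obtain ⟨W', hx', m', hm', h'⟩ := hq
    refine ⟨W ⊓ W', ⟨hx, hx'⟩, res L (inf_le_left : W ⊓ W' ≤ W) m + res L (inf_le_right : W ⊓ W' ≤ W') m',
      ?_, fun y hy => ?_⟩
    · rw [map_add, ← hm, ← hm']
      exact (map_add (L.presheaf.germ _ x _).hom _ _).trans
        (congrArg₂ (· + ·) (germM_res' L _ x _ m) (germM_res' L _ x _ m'))
    · rw [show germM L (W ⊓ W') y hy (_ + _) = _ + _ from map_add (L.presheaf.germ _ y hy).hom _ _]
      refine add_mem ?_ ?_
      · exact cast (congrArg (· ∈ St Φ f i y) (germM_res' L (inf_le_left : W ⊓ W' ≤ W) y hy m).symm) (h y hy.1)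
      · exact cast (congrArg (· ∈ St Φ f i y) (germM_res' L (inf_le_right : W ⊓ W' ≤ W') y hy m').symm) (h' y hy.2)
  | smul c p _ hp =>
    obtain ⟨W, hx, m, hm, h⟩ := hp
    obtain ⟨V, hxV, c, rfl⟩ := X.presheaf.exists_germ_eq (x := x) c
    refine ⟨V ⊓ W, ⟨hxV, hx⟩,
      X.presheaf.map (homOfLE (inf_le_left : V ⊓ W ≤ V)).op c • res L (inf_le_right : V ⊓ W ≤ W) m,
      ?_, fun y hy => ?_⟩
    · rw [LinearEquiv.map_smul, ← hm]
      refine (germM_smul L (V ⊓ W) x ⟨hxV, hx⟩ _ _).trans
        (congrArg₂ (· • ·) ?_ (germM_res' L (inf_le_right : V ⊓ W ≤ W) x ⟨hxV, hx⟩ m))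
      exact X.presheaf.germ_res_apply _ x _ c
    · rw [show germM L (V ⊓ W) y hy (_ • _) = _ from germM_smul L (V ⊓ W) y hy _ _]
      refine Submodule.smul_mem _ _ ?_
      exact cast (congrArg (· ∈ St Φ f i y) (germM_res' L (inf_le_right : V ⊓ W ≤ W) y hy m).symm) (h y hy.2)

/-- The quotient by the `i`-th step. -/
abbrev Q (i : ℕ) : X.Modules := quot (St Φ f i)

theorem ker_π (i : ℕ) (x : X) :
    LinearMap.ker (stalkLin (quotπ (St Φ f i)) x) = St Φ f i x :=
  ker_quotπ (cont_St Φ f i) x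

/-- The projection between consecutive quotients. -/
theorem exists_proj (i : ℕ) : ∃ d : Q Φ f (i + 1) ⟶ Q Φ f i,
    ∀ x t, stalkLin d x (stalkLin (quotπ (St Φ f (i + 1))) x t) = stalkLin (quotπ (St Φ f i)) x t := by
  have h0 : incl (St Φ f (i + 1)) ≫ quotπ (St Φ f i) = 0 := hom_ext_stalk fun x => LinearMap.ext fun t => by
    rw [stalkLin_comp, stalkLin_zero, ← LinearMap.mem_ker, ker_π]
    refine St_anti Φ f (Nat.le_succ i) x ?_
    rw [← ker_π, LinearMap.mem_ker, ← stalkLin_comp, cokernel.condition, stalkLin_zero]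
  exact ⟨cokernel.desc _ _ h0, fun x t => by rw [← stalkLin_comp, cokernel.π_desc]⟩

theorem Q_zero_eq_zero (x : X) (t : (Q Φ f 0).presheaf.stalk x) : t = 0 := by
  obtain ⟨s, rfl⟩ := quotπ_surjective (St Φ f 0) x t
  rw [← LinearMap.mem_ker, ker_π, St_zero]
  trivial

theorem isIso_π_last : IsIso (quotπ (St Φ f (n + 1))) :=
  isIso_of_stalk fun x => ⟨LinearMap.ker_eq_bot.1 (by rw [ker_π, St_succ_self]), quotπ_surjective _ x⟩

end

variable {i j : ℕ} {E' E E'' L' L L'' : X.Modules} [E'.IsQuasicoherent] [E.IsQuasicoherent]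
  [E''.IsQuasicoherent] {f : E' ⟶ E} {g : E ⟶ E''}

/-- The graded piece: `Λ^i E' ⊗ Λ^j E''` is the kernel of consecutive quotients. -/
theorem exists_shortExact (Φ' : Sys i E' L') (Φ : Sys (i + j) E L) (Φ'' : Sys j E'' L'')
    (hinj : ∀ x, Function.Injective (stalkLin f x)) (hsur : ∀ x, Function.Surjective (stalkLin g x))
    (hex : ∀ x, Function.Exact (stalkLin f x) (stalkLin g x))
    (hproj : ∀ x, Module.Projective (X.presheaf.stalk x) (E''.presheaf.stalk x)) :
    ∃ S : ShortComplex X.Modules, S.ShortExact ∧ S.X₁ = tensM L' L'' ∧ S.X₂ = Q Φ f (i + 1) ∧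
      S.X₃ = Q Φ f i := by
  choose ψ hψi hψr hψ using fun x =>
    haveI := hproj x
    exists_grade (stalkLin f x) (stalkLin g x) (hinj x) (hsur x) (hex x) i j
  let π₁ := quotπ (St Φ f (i + 1))
  let eq : ∀ x : X, (tensM L' L'').presheaf.stalk x ≃ₗ[X.presheaf.stalk x]
      (⋀[X.presheaf.stalk x]^i (E'.presheaf.stalk x)) ⊗[X.presheaf.stalk x]
        (⋀[X.presheaf.stalk x]^j (E''.presheaf.stalk x)) := fun x =>
    (stalkTensorEquiv L' L'' x).trans (TensorProduct.congr (stalkEquiv Φ' x) (stalkEquiv Φ'' x))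
  let P : ∀ x : X, ((⋀[X.presheaf.stalk x]^(i + j) (E.presheaf.stalk x)) ⧸
      Fil (stalkLin f x) (i + j) (i + 1)) →ₗ[X.presheaf.stalk x] (Q Φ f (i + 1)).presheaf.stalk x :=
    fun x => Submodule.liftQ _ (stalkLin π₁ x ∘ₗ (stalkEquiv Φ x).symm.toLinearMap) fun z hz => by
      rw [LinearMap.mem_ker, LinearMap.comp_apply, ← LinearMap.mem_ker, ker_π, mem_St]
      simpa using hz
  have hP : ∀ x z, P x (Submodule.Quotient.mk z) = stalkLin π₁ x ((stalkEquiv Φ x).symm z) :=
    fun x z => rfl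
  have hPinj : ∀ x, Function.Injective (P x) := fun x => by
    rw [injective_iff_map_eq_zero]
    intro z hz
    obtain ⟨z, rfl⟩ := Submodule.mkQ_surjective _ z
    rw [Submodule.mkQ_apply, hP, ← LinearMap.mem_ker, ker_π, mem_St, LinearEquiv.apply_symm_apply] at hz
    exact (Submodule.Quotient.mk_eq_zero _).2 hz
  let φ := fun x : X => P x ∘ₗ ψ x ∘ₗ (eq x).toLinearMap
  have hgen : ∀ x (a : Fin i → E'.presheaf.stalk x) (c : Fin j → E''.presheaf.stalk x),
      Loc φ x ((eq x).symm (exteriorPower.ιMulti _ i a ⊗ₜ exteriorPower.ιMulti _ j c)) := by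
    intro x a c
    choose b hb using fun k => hsur x (c k)
    obtain ⟨U₀, hx₀, -, b', hb'⟩ := exists_lifts E x b ⊤ trivial
    obtain ⟨U, hx, hle, a', ha'⟩ := exists_lifts E' x a U₀.1 hx₀
    let bU : Fin j → Γ(E, U.1) := fun k => res E hle (b' k)
    let m₁ := wsec Φ' U a'
    let m₂ := wsec Φ'' U fun k => g.app U.1 (bU k)
    have hm : ∀ y (hy : y ∈ U.1), eq y (germM (tensM L' L'') U.1 y hy (tmulSec U.1 m₁ m₂)) =
        exteriorPower.ιMulti _ i (fun k => germM E' U.1 y hy (a' k)) ⊗ₜ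
          exteriorPower.ιMulti _ j (stalkLin g y ∘ fun k => germM E U.1 y hy (bU k)) := by
      intro y hy
      change TensorProduct.congr _ _ (toTensor L' L'' y (tgerm L' L'' y U.1 hy m₁ m₂)) = _
      rw [toTensor_tgerm, TensorProduct.congr_tmul, equiv_wedge, equiv_wedge]
      congr 1
      exact congrArg _ (funext fun k => (stalkLin_germ g U.1 y hy (bU k)).symm)
    refine ⟨U.1, hx, tmulSec U.1 m₁ m₂,
      π₁.app U.1 (wsec Φ U (Fin.append (fun k => f.app U.1 (a' k)) bU)), ?_, fun y hy => ?_⟩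
    · refine (eq x).injective ((hm x hx).trans ?_)
      rw [LinearEquiv.apply_symm_apply, funext ha']
      congr 1
      refine congrArg _ (funext fun k => ?_)
      change stalkLin g x (germM E U.1 x hx (res E hle (b' k))) = c k
      rw [germM_res', hb', hb]
    · change P y (ψ y (eq y _)) = _
      rw [hm, hψ, hP, ← stalkLin_germ]
      refine congrArg _ ((LinearEquiv.symm_apply_eq _).2 ?_)
      rw [equiv_wedge]
      refine congrArg _ (funext fun k => ?_)
      refine Fin.addCases (fun l => ?_) (fun l => ?_) k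
      · rw [Fin.append_left, Fin.append_left]
        exact stalkLin_germ f U.1 y hy (a' l)
      · rw [Fin.append_right, Fin.append_right]
  have hloc : ∀ x t, Loc φ x t := by
    intro x t
    rw [← (eq x).symm_apply_apply t]
    generalize eq x t = z
    induction z using TensorProduct.induction_on with
    | zero => rw [map_zero]; exact loc_zero x
    | add p q hp hq => rw [map_add]; exact loc_add hp hq
    | tmul p q =>
      have hp : p ∈ Submodule.span (X.presheaf.stalk x)
          (Set.range (exteriorPower.ιMulti (X.presheaf.stalk x) i (M := E'.presheaf.stalk x))) := by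
        rw [exteriorPower.ιMulti_span]; trivial
      have hq : q ∈ Submodule.span (X.presheaf.stalk x)
          (Set.range (exteriorPower.ιMulti (X.presheaf.stalk x) j (M := E''.presheaf.stalk x))) := by
        rw [exteriorPower.ιMulti_span]; trivial
      induction hp using Submodule.span_induction with
      | mem p hp =>
        obtain ⟨a, rfl⟩ := hp
        induction hq using Submodule.span_induction with
        | mem q hq => obtain ⟨c, rfl⟩ := hq; exact hgen x a c
        | zero => rw [tmul_zero, map_zero]; exact loc_zero x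
        | add q q' _ _ hq hq' => rw [tmul_add, map_add]; exact loc_add hq hq'
        | smul c q _ hq => rw [tmul_smul, LinearEquiv.map_smul]; exact loc_smul c hq
      | zero => rw [zero_tmul, map_zero]; exact loc_zero x
      | add p p' _ _ hp hp' => rw [add_tmul, map_add]; exact loc_add hp hp'
      | smul c p _ hp => rw [← smul_tmul', LinearEquiv.map_smul]; exact loc_smul c hp
  obtain ⟨h, hh⟩ := exists_hom hloc
  obtain ⟨d, hd⟩ := exists_proj Φ f i
  have hrange : ∀ x z, stalkLin d x (P x z) = 0 ↔ z ∈ LinearMap.range (ψ x) := by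
    intro x z
    obtain ⟨z, rfl⟩ := Submodule.mkQ_surjective _ z
    rw [Submodule.mkQ_apply, hP, hd, ← LinearMap.mem_ker, ker_π, mem_St, LinearEquiv.apply_symm_apply, hψr,
      ← Submodule.mkQ_apply]
    refine ⟨fun hz => Submodule.mem_map_of_mem hz, fun hz => ?_⟩
    obtain ⟨z', hz', e⟩ := hz
    rw [Submodule.mkQ_apply, Submodule.mkQ_apply, Submodule.Quotient.eq] at e
    simpa using sub_mem hz' (Fil_anti _ _ (Nat.le_succ i) e)
  have hz : h ≫ d = 0 := hom_ext_stalk fun x => LinearMap.ext fun t => by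
    rw [stalkLin_comp, stalkLin_zero, hh]
    exact (hrange x _).2 ⟨eq x t, rfl⟩
  refine ⟨ShortComplex.mk h d hz,
    { exact := exact_of_stalk _ fun x t ht => ?_
      mono_f := mono_of_stalk fun x => ?_
      epi_g := epi_of_stalk fun x t => ?_ }, rfl, rfl, rfl⟩
  · obtain ⟨s, rfl⟩ := quotπ_surjective _ x t
    obtain ⟨z, rfl⟩ := (stalkEquiv Φ x).symm.surjective s
    obtain ⟨w, hw⟩ := (hrange x (Submodule.Quotient.mk z)).1 ht
    refine ⟨(eq x).symm w, (hh x _).trans ?_⟩
    change P x (ψ x (eq x _)) = _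
    rw [LinearEquiv.apply_symm_apply, hw]
    rfl
  · intro s t hst
    have e : φ x s = φ x t := (hh x s).symm.trans (hst.trans (hh x t))
    exact (eq x).injective (hψi x (hPinj x e))
  · obtain ⟨s, rfl⟩ := quotπ_surjective (St Φ f i) x t
    exact ⟨_, hd x s⟩

end Groth.Agent.ExtFilt.Sheaf
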