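import Mathlib.LinearAlgebra.ExteriorPower.Basic
import Mathlib.LinearAlgebra.ExteriorAlgebra.Grading
import Mathlib.LinearAlgebra.Alternating.DomCoprod
import Mathlib.GroupTheory.Perm.Sign
import Mathlib.Algebra.Module.Projective

/-!
# The graded pieces of the exterior power of an extension
-/

set_option autoImplicit false
set_option linter.style.haveILetI false
set_option maxHeartbeats 1000000

universe u

open TensorProduct

namespace Groth.Agent.ExtFilt.Alg

variable {R : Type u} [CommRing R] {E' E E'' : Type u} [AddCommGroup E'] [Module R E']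
  [AddCommGroup E] [Module R E] [AddCommGroup E''] [Module R E'']
  (f : E' →ₗ[R] E) (g : E →ₗ[R] E'')

/-- The `i`-th step: wedges with at least `i` entries from the submodule, put in front. -/
def Fil (n i : ℕ) : Submodule R (⋀[R]^n E) :=
  Submodule.span R {z | ∃ v : Fin n → E, i ≤ n ∧ (∀ k : Fin n, (k : ℕ) < i → v k ∈ LinearMap.range f) ∧
    exteriorPower.ιMulti R n v = z}

theorem mem_Fil {n i : ℕ} {v : Fin n → E} (hi : i ≤ n)
    (hv : ∀ k : Fin n, (k : ℕ) < i → v k ∈ LinearMap.range f) :
    exteriorPower.ιMulti R n v ∈ Fil f n i :=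
  Submodule.subset_span ⟨v, hi, hv, rfl⟩

theorem Fil_anti (n : ℕ) {i i' : ℕ} (h : i ≤ i') : Fil f n i' ≤ Fil f n i := by
  refine Submodule.span_le.2 ?_
  rintro _ ⟨v, hi, hv, rfl⟩
  exact mem_Fil f (h.trans hi) fun k hk => hv k (lt_of_lt_of_le hk h)

theorem Fil_zero (n : ℕ) : Fil f n 0 = ⊤ := by
  rw [eq_top_iff, ← exteriorPower.ιMulti_span R n E, Submodule.span_le]
  rintro _ ⟨v, rfl⟩
  exact mem_Fil f (Nat.zero_le n) fun k hk => absurd hk (Nat.not_lt_zero _)

theorem Fil_succ_self (n : ℕ) : Fil f n (n + 1) = ⊥ := by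
  rw [eq_bot_iff, Fil, Submodule.span_le]
  rintro _ ⟨v, hi, -, rfl⟩
  exact absurd hi (Nat.not_succ_le_self n)

/-- Linear maps out of a tensor product of exterior powers are determined on decomposable elements. -/
theorem tensor_ext {M₁ M₂ N : Type u} [AddCommGroup M₁] [Module R M₁] [AddCommGroup M₂] [Module R M₂]
    [AddCommMonoid N] [Module R N] {i j : ℕ} {φ φ' : (⋀[R]^i M₁) ⊗[R] (⋀[R]^j M₂) →ₗ[R] N}
    (h : ∀ a b, φ (exteriorPower.ιMulti R i a ⊗ₜ[R] exteriorPower.ιMulti R j b) =
      φ' (exteriorPower.ιMulti R i a ⊗ₜ[R] exteriorPower.ιMulti R j b)) : φ = φ' := by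
  refine TensorProduct.ext' fun x y => ?_
  have hx : x ∈ Submodule.span R (Set.range (exteriorPower.ιMulti R i (M := M₁))) := by
    rw [exteriorPower.ιMulti_span]; trivial
  have hy : y ∈ Submodule.span R (Set.range (exteriorPower.ιMulti R j (M := M₂))) := by
    rw [exteriorPower.ιMulti_span]; trivial
  induction hx using Submodule.span_induction with
  | mem x hx =>
    obtain ⟨a, rfl⟩ := hx
    induction hy using Submodule.span_induction with
    | mem y hy => obtain ⟨b, rfl⟩ := hy; exact h a b
    | zero => simp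
    | add p q _ _ hp hq => rw [tmul_add, map_add, map_add, hp, hq]
    | smul c p _ hp => rw [tmul_smul, map_smul, map_smul, hp]
  | zero => simp
  | add p q _ _ hp hq => rw [add_tmul, map_add, map_add, hp, hq]
  | smul c p _ hp => rw [← smul_tmul', map_smul, map_smul, hp]

theorem map_eq_zero_of_apply_eq_zero {ι N : Type*} [AddCommGroup N] [Module R N] (m : E [⋀^ι]→ₗ[R] N)
    {v : ι → E} (k : ι) (h : v k = 0) : m v = 0 :=
  m.map_coord_zero k h

variable {i j : ℕ}

/-- A wedge with an extra entry from the submodule lies in the next step. -/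
theorem mem_Fil_succ {n : ℕ} {v : Fin n → E} (hv : ∀ k : Fin n, (k : ℕ) < i → v k ∈ LinearMap.range f)
    {l : Fin n} (hl : i ≤ l) (hvl : v l ∈ LinearMap.range f) :
    exteriorPower.ιMulti R n v ∈ Fil f n (i + 1) := by
  have hin : i < n := lt_of_le_of_lt hl l.2
  let i₀ : Fin n := ⟨i, hin⟩
  have h : exteriorPower.ιMulti R n (v ∘ Equiv.swap i₀ l) ∈ Fil f n (i + 1) := by
    refine mem_Fil f hin fun k hk => ?_
    rcases eq_or_lt_of_le (Nat.lt_succ_iff.1 hk) with e | e
    · have : k = i₀ := Fin.ext e
      rw [this, Function.comp_apply, Equiv.swap_apply_left]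
      exact hvl
    · have h1 : k ≠ i₀ := fun h => (h ▸ e).ne rfl
      have h2 : k ≠ l := fun h => absurd hl (not_le.2 (h ▸ e))
      rw [Function.comp_apply, Equiv.swap_apply_of_ne_of_ne h1 h2]
      exact hv k e
  by_cases hle : i₀ = l
  · rwa [hle, Equiv.swap_self, Equiv.coe_refl, Function.comp_id] at h
  · rw [AlternatingMap.map_swap _ _ hle] at h
    exact (Submodule.neg_mem_iff _).1 h

section Wedge

/-- The product of wedges, through a linear map on each factor. -/
noncomputable def wdg (σ : E'' →ₗ[R] E) :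
    (⋀[R]^i E') ⊗[R] (⋀[R]^j E'') →ₗ[R] ⋀[R]^(i + j) E :=
  TensorProduct.lift (LinearMap.mk₂ R
    (fun p q => ⟨(exteriorPower.map i f p : ExteriorAlgebra R E) * (exteriorPower.map j σ q : ExteriorAlgebra R E),
      SetLike.GradedMul.mul_mem (exteriorPower.map i f p).2 (exteriorPower.map j σ q).2⟩)
    (fun p p' q => Subtype.ext (by simp [map_add, add_mul]))
    (fun c p q => Subtype.ext (by simp [map_smul]))
    (fun p q q' => Subtype.ext (by simp [map_add, mul_add]))
    (fun c p q => Subtype.ext (by simp [map_smul])))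

theorem wdg_ιMulti (σ : E'' →ₗ[R] E) (a : Fin i → E') (c : Fin j → E'') :
    wdg f σ (exteriorPower.ιMulti R i a ⊗ₜ[R] exteriorPower.ιMulti R j c) =
      exteriorPower.ιMulti R (i + j) (Fin.append (f ∘ a) (σ ∘ c)) := by
  apply Subtype.ext
  simp only [wdg, TensorProduct.lift.tmul, LinearMap.mk₂_apply, exteriorPower.map_apply_ιMulti,
    exteriorPower.ιMulti_apply_coe, ExteriorAlgebra.ιMulti_apply]
  rw [show (List.ofFn fun k => ExteriorAlgebra.ι R (Fin.append (f ∘ a) (σ ∘ c) k)) =
      List.ofFn (Fin.append (fun k => ExteriorAlgebra.ι R (f (a k))) (fun k => ExteriorAlgebra.ι R (σ (c k)))) from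
    congrArg List.ofFn (funext fun k => by
      refine Fin.addCases (fun l => ?_) (fun l => ?_) k <;> simp), List.ofFn_fin_append, List.prod_append]
  rfl

end Wedge

section Retract

variable (r : E →ₗ[R] E')

/-- The component in `⋀^i E' ⊗ ⋀^j E''`. -/
noncomputable def comp' (g : E →ₗ[R] E'') (r : E →ₗ[R] E') :
    ⋀[R]^(i + j) E →ₗ[R] (⋀[R]^i E') ⊗[R] (⋀[R]^j E'') :=
  exteriorPower.alternatingMapLinearEquiv (R := R) (M := E) (N := (⋀[R]^i E') ⊗[R] (⋀[R]^j E''))
    (AlternatingMap.domDomCongr finSumFinEquiv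
      (AlternatingMap.domCoprod ((exteriorPower.ιMulti R i (M := E')).compLinearMap r)
        ((exteriorPower.ιMulti R j (M := E'')).compLinearMap g)))

/-- Permutations preserving the right summand are block permutations. -/
theorem mem_range_of_inr {σ : Equiv.Perm (Fin i ⊕ Fin j)} (h : ∀ k, ∃ k', σ (Sum.inr k) = Sum.inr k') :
    σ ∈ (Equiv.Perm.sumCongrHom (Fin i) (Fin j)).range := by
  refine Equiv.Perm.mem_sumCongrHom_range_of_perm_mapsTo_inl ?_
  choose κ hκ using h
  have hκi : Function.Injective κ := fun a b e => Sum.inr_injective (σ.injective ((hκ a).trans (e ▸ (hκ b).symm)))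
  rintro _ ⟨a, rfl⟩
  rcases hs : σ (Sum.inl a) with a' | b'
  · exact ⟨a', rfl⟩
  · obtain ⟨k, rfl⟩ := Finite.surjective_of_injective hκi b'
    exact absurd (σ.injective (hs.trans (hκ k).symm)) Sum.inl_ne_inr

theorem comp'_append (hgf : g ∘ₗ f = 0) (hr : r ∘ₗ f = LinearMap.id) (a : Fin i → E') (b : Fin j → E) :
    comp' g r (exteriorPower.ιMulti R (i + j) (Fin.append (f ∘ a) b)) =
      exteriorPower.ιMulti R i a ⊗ₜ[R] exteriorPower.ιMulti R j (g ∘ b) := by
  rw [comp', exteriorPower.alternatingMapLinearEquiv_apply_ιMulti, AlternatingMap.domDomCongr_apply,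
    AlternatingMap.domCoprod_apply, _root_.sum_apply]
  refine (Finset.sum_eq_single (Quotient.mk'' (1 : Equiv.Perm (Fin i ⊕ Fin j))) ?others ?mem).trans ?main
  case main =>
    rw [AlternatingMap.domCoprod.summand_mk'']
    simp only [Equiv.Perm.sign_one, one_smul, MultilinearMap.domDomCongr_apply,
      MultilinearMap.domCoprod_apply, AlternatingMap.coe_multilinearMap, AlternatingMap.compLinearMap_apply,
      Equiv.Perm.coe_one, id_eq, finSumFinEquiv_apply_left, finSumFinEquiv_apply_right, Function.comp_apply,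
      Fin.append_left, Fin.append_right]
    congr 1
    exact congrArg _ (funext fun k => LinearMap.congr_fun hr (a k))
  case others =>
    intro σ _ hσ
    induction σ using Quotient.inductionOn' with | _ σ =>
    rw [AlternatingMap.domCoprod.summand_mk'']
    by_cases h : ∀ k, ∃ k', σ (Sum.inr k) = Sum.inr k'
    · exact absurd (Quotient.sound' (QuotientGroup.leftRel_apply.2
        (by rw [mul_one]; exact inv_mem (mem_range_of_inr h)))) hσ
    · obtain ⟨k, hk⟩ := not_forall.1 h
      obtain ⟨l, hl⟩ : ∃ l, σ (Sum.inr k) = Sum.inl l := by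
        rcases hs : σ (Sum.inr k) with l | l
        · exact ⟨l, rfl⟩
        · exact absurd ⟨l, hs⟩ hk
      simp only [_root_.smul_apply, MultilinearMap.domDomCongr_apply, MultilinearMap.domCoprod_apply,
        AlternatingMap.coe_multilinearMap, AlternatingMap.compLinearMap_apply, Function.comp_apply]
      rw [show (exteriorPower.ιMulti R j fun k => g (Fin.append (f ∘ a) b (finSumFinEquiv (σ (Sum.inr k))))) = 0 from
        AlternatingMap.map_coord_zero _ k (by
          rw [hl, finSumFinEquiv_apply_left, Fin.append_left]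
          exact LinearMap.congr_fun hgf (a l)), tmul_zero, smul_zero]
  case mem =>
    intro h
    exact absurd (Finset.mem_univ _) h

theorem comp'_Fil (hgf : g ∘ₗ f = 0) : Fil f (i + j) (i + 1) ≤ LinearMap.ker (comp' g r) := by
  refine Submodule.span_le.2 ?_
  rintro _ ⟨v, hin, hv, rfl⟩
  rw [SetLike.mem_coe, LinearMap.mem_ker, comp', exteriorPower.alternatingMapLinearEquiv_apply_ιMulti,
    AlternatingMap.domDomCongr_apply, AlternatingMap.domCoprod_apply, _root_.sum_apply]
  refine Finset.sum_eq_zero fun σ _ => ?_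
  induction σ using Quotient.inductionOn' with | _ σ =>
  rw [AlternatingMap.domCoprod.summand_mk'']
  obtain ⟨k, hk⟩ : ∃ k : Fin j, (finSumFinEquiv (σ (Sum.inr k)) : ℕ) < i + 1 := by
    by_contra! hc
    have h : ∀ l : Fin (i + 1), ∃ a : Fin i, σ.symm (finSumFinEquiv.symm (Fin.castLE hin l)) = Sum.inl a := by
      intro l
      rcases hs : σ.symm (finSumFinEquiv.symm (Fin.castLE hin l)) with a | k
      · exact ⟨a, rfl⟩
      · exfalso
        have := hc k
        rw [← hs, Equiv.apply_symm_apply, Equiv.apply_symm_apply] at this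
        exact absurd l.2 (not_lt.2 this)
    choose α hα using h
    have hinj : Function.Injective α := fun l l' e => Fin.castLE_injective hin
      (finSumFinEquiv.symm.injective (σ.symm.injective ((hα l).trans (e ▸ (hα l').symm))))
    simpa using Fintype.card_le_of_injective α hinj
  obtain ⟨e, he⟩ := hv _ hk
  simp only [_root_.smul_apply, MultilinearMap.domDomCongr_apply, MultilinearMap.domCoprod_apply,
    AlternatingMap.coe_multilinearMap, AlternatingMap.compLinearMap_apply, Function.comp_apply]
  rw [show (exteriorPower.ιMulti R j fun k => g (v (finSumFinEquiv (σ (Sum.inr k))))) = 0 from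
    AlternatingMap.map_coord_zero _ k (by rw [← he]; exact LinearMap.congr_fun hgf e), tmul_zero, smul_zero]

end Retract

/-- The graded piece of the exterior power of an extension. -/
theorem exists_grade [Module.Projective R E''] (hf : Function.Injective f) (hg : Function.Surjective g)
    (hfg : Function.Exact f g) (i j : ℕ) :
    ∃ ψ : (⋀[R]^i E') ⊗[R] (⋀[R]^j E'') →ₗ[R] (⋀[R]^(i + j) E) ⧸ Fil f (i + j) (i + 1),
      Function.Injective ψ ∧ LinearMap.range ψ = (Fil f (i + j) i).map (Fil f (i + j) (i + 1)).mkQ ∧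
      ∀ (a : Fin i → E') (b : Fin j → E), ψ (exteriorPower.ιMulti R i a ⊗ₜ[R] exteriorPower.ιMulti R j (g ∘ b)) =
        Submodule.Quotient.mk (exteriorPower.ιMulti R (i + j) (Fin.append (f ∘ a) b)) := by
  obtain ⟨σ, hσ⟩ := Module.projective_lifting_property g LinearMap.id hg
  have hσ' : ∀ c, g (σ c) = c := fun c => LinearMap.congr_fun hσ c
  have hlift : ∀ e, ∃ e', f e' = e - σ (g e) := fun e => (hfg _).1 (by rw [map_sub, hσ', sub_self])
  choose r₀ hr₀ using hlift
  have hlift : ∀ e, ∃ e', f e' = e - σ (g e) := fun e => ⟨r₀ e, hr₀ e⟩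
  let r : E →ₗ[R] E' :=
    { toFun := r₀
      map_add' := fun e e' => hf (by rw [map_add, hr₀, hr₀, hr₀, map_add, map_add]; abel)
      map_smul' := fun c e => hf (by
        rw [RingHom.id_apply, map_smul, hr₀, hr₀, map_smul, map_smul, smul_sub]) }
  have hgf : g ∘ₗ f = 0 := LinearMap.ext fun e => hfg.apply_apply_eq_zero e
  have hr : r ∘ₗ f = LinearMap.id := LinearMap.ext fun e => hf (by
    refine (hr₀ (f e)).trans ?_
    rw [hfg.apply_apply_eq_zero e, map_zero, sub_zero, LinearMap.id_apply])
  let K := Fil f (i + j) (i + 1)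
  let ψ : (⋀[R]^i E') ⊗[R] (⋀[R]^j E'') →ₗ[R] (⋀[R]^(i + j) E) ⧸ K := K.mkQ ∘ₗ wdg f σ
  have hspec : ∀ (a : Fin i → E') (b : Fin j → E),
      ψ (exteriorPower.ιMulti R i a ⊗ₜ[R] exteriorPower.ιMulti R j (g ∘ b)) =
        Submodule.Quotient.mk (exteriorPower.ιMulti R (i + j) (Fin.append (f ∘ a) b)) := by
    intro a b
    change Submodule.Quotient.mk (p := K) (wdg f σ _) = _
    rw [wdg_ιMulti, Submodule.Quotient.eq]
    suffices h : ∀ s : Finset (Fin j), exteriorPower.ιMulti R (i + j)
        (Fin.append (f ∘ a) (s.piecewise (σ ∘ g ∘ b) b)) -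
          exteriorPower.ιMulti R (i + j) (Fin.append (f ∘ a) b) ∈ K by
      have := h Finset.univ
      rwa [Finset.piecewise_univ] at this
    intro s
    induction s using Finset.induction with
    | empty => rw [Finset.piecewise_empty, sub_self]; exact zero_mem _
    | insert k s hks ih =>
      obtain ⟨e, he⟩ := hlift (b k)
      set w := s.piecewise (σ ∘ g ∘ b) b with hw
      have hwk : w k = σ (g (b k)) + f e := by
        rw [hw, Finset.piecewise_eq_of_notMem _ _ _ hks, he]
        abel
      have h1 : Fin.append (f ∘ a) ((insert k s).piecewise (σ ∘ g ∘ b) b) =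
          Function.update (Fin.append (f ∘ a) w) (Fin.natAdd i k) (σ (g (b k))) := by
        funext l
        refine Fin.addCases (fun l => ?_) (fun l => ?_) l
        · rw [Fin.append_left, Function.update_of_ne (by
            intro h
            have := congrArg Fin.val h
            simp at this
            omega), Fin.append_left]
        · rw [Fin.append_right]
          by_cases hlk : l = k
          · subst hlk
            rw [Function.update_self, Finset.piecewise_eq_of_mem _ _ _ (Finset.mem_insert_self _ _)]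
            rfl
          · rw [Function.update_of_ne (fun h => hlk (Fin.natAdd_injective j i h)), Fin.append_right, hw]
            simp [Finset.piecewise, hlk]
      have h2 : Fin.append (f ∘ a) w =
          Function.update (Fin.append (f ∘ a) w) (Fin.natAdd i k) (σ (g (b k)) + f e) := by
        rw [← hwk, ← Fin.append_right (f ∘ a) w k, Function.update_eq_self]
      rw [h2, AlternatingMap.map_update_add] at ih
      rw [h1]
      have h3 : exteriorPower.ιMulti R (i + j)
          (Function.update (Fin.append (f ∘ a) w) (Fin.natAdd i k) (f e)) ∈ K := by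
        refine mem_Fil_succ f (fun l hl => ?_) (l := Fin.natAdd i k) (by simp) ?_
        · rw [Function.update_of_ne (fun h => by rw [h] at hl; simp at hl)]
          obtain ⟨l', rfl⟩ : ∃ l' : Fin i, Fin.castAdd j l' = l := ⟨⟨l, hl⟩, rfl⟩
          rw [Fin.append_left]
          exact ⟨a l', rfl⟩
        · rw [Function.update_self]
          exact ⟨e, rfl⟩
      convert sub_mem ih h3 using 1
      abel
  refine ⟨ψ, ?_, ?_, hspec⟩
  · have hρ : comp' (i := i) (j := j) g r ∘ₗ wdg f σ = LinearMap.id := by
      refine tensor_ext (R := R) (M₁ := E') (M₂ := E'') (i := i) (j := j) fun a c => ?_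
      simp only [LinearMap.comp_apply, LinearMap.id_apply]
      rw [wdg_ιMulti, comp'_append f g r hgf hr]
      exact congrArg _ (congrArg _ (funext fun k => hσ' (c k)))
    refine (injective_iff_map_eq_zero _).2 fun z hz => ?_
    have h1 : wdg f σ z ∈ K := (Submodule.Quotient.mk_eq_zero _).1 hz
    rw [← LinearMap.id_apply (R := R) z, ← hρ, LinearMap.comp_apply]
    exact comp'_Fil (i := i) (j := j) f g r hgf h1
  · refine le_antisymm ?_ ?_
    · rw [LinearMap.range_comp]
      refine Submodule.map_mono ?_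
      have h0 : (Fil f (i + j) i).mkQ ∘ₗ wdg f σ = 0 := by
        refine tensor_ext (R := R) (M₁ := E') (M₂ := E'') (i := i) (j := j) fun a c => ?_
        simp only [LinearMap.comp_apply, LinearMap.zero_apply]
        rw [wdg_ιMulti]
        refine (Submodule.Quotient.mk_eq_zero _).2 (mem_Fil f (Nat.le_add_right i j) fun l hl => ?_)
        obtain ⟨l', rfl⟩ : ∃ l' : Fin i, Fin.castAdd j l' = l := ⟨⟨l, hl⟩, rfl⟩
        rw [Fin.append_left]
        exact ⟨a l', rfl⟩
      rintro _ ⟨z, rfl⟩
      exact (Submodule.Quotient.mk_eq_zero _).1 (LinearMap.congr_fun h0 z)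
    · refine Submodule.map_le_iff_le_comap.2 (Submodule.span_le.2 ?_)
      rintro _ ⟨v, -, hv, rfl⟩
      choose a ha using fun l : Fin i => hv (Fin.castAdd j l) (by simp)
      refine ⟨exteriorPower.ιMulti R i a ⊗ₜ[R] exteriorPower.ιMulti R j (g ∘ fun l => v (Fin.natAdd i l)), ?_⟩
      rw [hspec, show Fin.append (f ∘ a) (fun l => v (Fin.natAdd i l)) = v from funext fun l =>
        Fin.addCases (fun l => by rw [Fin.append_left]; exact ha l) (fun l => by rw [Fin.append_right]) l]
      rfl

end Groth.Agent.ExtFilt.Alg
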